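import Groth.Agent.K0Tensor.Nilp
import Groth.Agent.SerreSplit.Cancel
import Mathlib

/-!
# Projective modules with a free tensor power
-/

set_option autoImplicit false

universe u

open scoped TensorProduct

namespace Groth.Agent.K0Tensor

variable {R : Type u} [CommRing R]

theorem tensorPower_cl (P : Type u) [AddCommGroup P] [Module R P] [Module.Finite R P] [Module.Projective R P] :
    ∀ n : ℕ, ∃ (_ : Module.Finite R (TensorPower R n P)) (_ : Module.Projective R (TensorPower R n P)),
      cl R (TensorPower R n P) = cl R P ^ n ∧ ∀ p : PrimeSpectrum R,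
        Module.rankAtStalk (R := R) (TensorPower R n P) p = Module.rankAtStalk (R := R) P p ^ n := by
  intro n
  induction n with
  | zero =>
    let e : TensorPower R 0 P ≃ₗ[R] R := PiTensorProduct.isEmptyEquiv (Fin 0)
    haveI := Module.Finite.equiv e.symm
    haveI := Module.Projective.of_equiv e.symm
    refine ⟨inferInstance, inferInstance, by rw [cl_congr e, cl_self, pow_zero], fun p => ?_⟩
    haveI : Nontrivial R := p.nontrivial
    rw [Module.rankAtStalk_eq_of_equiv e, Module.rankAtStalk_self, Pi.one_apply, pow_zero]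
  | succ n ih =>
    obtain ⟨h1, h2, hcl, hrk⟩ := ih
    let e : (P ⊗[R] TensorPower R n P) ≃ₗ[R] TensorPower R (n + 1) P :=
      (TensorProduct.congr (PiTensorProduct.subsingletonEquiv (s := fun _ : Fin 1 => P) (0 : Fin 1)).symm
        (LinearEquiv.refl R _)).trans (TensorPower.mulEquiv.trans (TensorPower.cast R P (add_comm 1 n)))
    haveI := Module.Finite.equiv e
    haveI := Module.Projective.of_equiv e
    refine ⟨inferInstance, inferInstance, by rw [← cl_congr e, cl_tensor, hcl, pow_succ'], fun p => ?_⟩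
    rw [← Module.rankAtStalk_eq_of_equiv e, Module.rankAtStalk_tensorProduct, Pi.mul_apply, hrk, pow_succ']

/-- If a tensor power of a finite projective module is free, so is a direct sum of copies of it. -/
theorem exists_pi_free [IsNoetherianRing R] (hdim : ringKrullDim R < ⊤) (P : Type u) [AddCommGroup P]
    [Module R P] [Module.Finite R P] [Module.Projective R P] (n : ℕ) (hn : 1 ≤ n)
    (hfree : Module.Free R (TensorPower R n P)) : ∃ N : ℕ, 1 ≤ N ∧ Module.Free R (Fin N → P) := by
  classical
  rcases subsingleton_or_nontrivial R with hR | hR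
  · exact ⟨1, le_rfl, Module.Free.of_subsingleton' R _⟩
  obtain ⟨h1, h2, hcl, hrk⟩ := tensorPower_cl (R := R) P n
  let s := Module.finrank R (TensorPower R n P)
  let b : TensorPower R n P ≃ₗ[R] (Fin s → R) :=
    (Module.finBasis R (TensorPower R n P)).equivFun
  have hs : ∀ p, Module.rankAtStalk (R := R) P p ^ n = s := fun p => by
    rw [← hrk, Module.rankAtStalk_eq_finrank_of_free]; rfl
  obtain ⟨p₀⟩ : Nonempty (PrimeSpectrum R) := inferInstance
  set r := Module.rankAtStalk (R := R) P p₀
  have hconst : ∀ p : PrimeSpectrum R, Module.rankAtStalk (R := R) P p = r := fun p =>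
    Nat.pow_left_injective (by omega) ((hs p).trans (hs p₀).symm)
  rcases Nat.eq_zero_or_pos r with hr | hr
  · haveI : Subsingleton P := Module.rankAtStalk_eq_zero_iff_subsingleton.1 (funext fun p => (hconst p).trans hr)
    exact ⟨1, le_rfl, inferInstance⟩
  have hpow : cl R P ^ n = (r : Cls R) ^ n := by
    rw [← hcl, cl_congr b, cl_free, ← Nat.cast_pow, hs p₀]
  obtain ⟨N, hN, hmu⟩ := exists_nsmul_eq hn hr hconst hpow
  obtain ⟨d, hd⟩ : ∃ d : ℕ, ringKrullDim R ≤ d := by
    obtain ⟨x, hx⟩ := WithBot.ne_bot_iff_exists.1 ((ringKrullDim_nonneg_of_nontrivial (R := R)).trans_lt' (WithBot.bot_lt_coe 0) |>.ne')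
    rw [← hx] at hdim
    obtain ⟨d, rfl⟩ := ENat.ne_top_iff_exists.1 (WithBot.coe_lt_coe.1 hdim).ne
    exact ⟨d, hx.symm.le⟩
  set N' := (d + 1) * N
  have hmu' : mu R ((N' : Cls R) * cl R P) = mu R ((N' * r : ℕ) : Cls R) := by
    rw [Nat.cast_mul (d + 1) N, mul_assoc, map_mul, hmu, ← map_mul, ← Nat.cast_mul, ← mul_assoc]
  obtain ⟨c, hc⟩ := exists_add_eq_of_mu_eq hmu'
  haveI : Module.Projective R (Fin N' → P) :=
    Module.Projective.of_equiv (DFinsupp.linearEquivFunOnFintype (R := R) (M := fun _ : Fin N' => P))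
  rw [← cl_fin_fun, ← cl_free] at hc
  obtain ⟨k, hk⟩ := exists_free_of_add_eq hc
  have hrkN : ∀ p, Module.rankAtStalk (R := R) (Fin N' → P) p = N' * r := fun p => by
    simp [Module.rankAtStalk_pi, hconst, finsum_eq_sum_of_fintype]
  have hlt : d < N' * r := by
    have h3 : 1 * 1 ≤ N * r := Nat.mul_le_mul hN hr
    rw [show N' = (d + 1) * N from rfl, mul_assoc]
    have : (d + 1) * 1 ≤ (d + 1) * (N * r) := Nat.mul_le_mul_left _ h3
    omega
  obtain ⟨e⟩ := SerreSplit.cancel hd hrkN hlt k hk
  exact ⟨N', Nat.mul_pos (Nat.succ_pos d) hN, Module.Free.of_equiv e.symm⟩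

end Groth.Agent.K0Tensor
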