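import Groth.Agent.K0Tensor.Semiring
import Mathlib

/-!
# Projective modules of constant rank differ from free ones by a nilpotent class
-/

set_option autoImplicit false
set_option linter.unusedSectionVars false

universe u

open scoped TensorProduct

namespace Groth.Agent.K0Tensor

variable {R : Type u} [CommRing R]

/-- A factorisation of the scalar `c` representing the class `x`. -/
structure MFac (c : R) (x : GEnd R) where
  A : Type u
  B : Type u
  [addA : AddCommGroup A]
  [modA : Module R A]
  [finA : Module.Finite R A]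
  [projA : Module.Projective R A]
  [addB : AddCommGroup B]
  [modB : Module R B]
  [finB : Module.Finite R B]
  [projB : Module.Projective R B]
  u : A →ₗ[R] B
  v : B →ₗ[R] A
  vu : v.comp u = c • LinearMap.id
  uv : u.comp v = c • LinearMap.id
  hx : x = mu R (cl R A) - mu R (cl R B)

attribute [instance] MFac.addA MFac.modA MFac.finA MFac.projA MFac.addB MFac.modB MFac.finB MFac.projB

theorem MFac.eq_zero {x : GEnd R} (F : MFac (1 : R) x) : x = 0 := by
  have h1 : F.v.comp F.u = LinearMap.id := by rw [F.vu, one_smul]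
  have h2 : F.u.comp F.v = LinearMap.id := by rw [F.uv, one_smul]
  rw [F.hx, cl_congr (LinearEquiv.ofLinearMap F.u F.v h2 h1), sub_self]

/-- Rescaling. -/
noncomputable def MFac.scale {c : R} {x : GEnd R} (F : MFac c x) (b : R) : MFac (b * c) x where
  A := F.A
  B := F.B
  u := b • F.u
  v := F.v
  vu := by rw [LinearMap.comp_smul, F.vu, smul_smul]
  uv := by rw [LinearMap.smul_comp, F.uv, smul_smul]
  hx := F.hx

variable (R) in
/-- The unit. -/
noncomputable def MFac.unit : MFac (0 : R) (1 : GEnd R) where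
  A := R
  B := PUnit.{u+1}
  u := 0
  v := 0
  vu := by simp
  uv := by simp
  hx := by rw [cl_self, cl_punit, map_one, map_zero, sub_zero]

/-- The product of two factorisations. -/
noncomputable def MFac.tensor {c d : R} {x y : GEnd R} (F : MFac c x) (G : MFac d y) :
    MFac (c + d) (x * y) where
  A := (F.A ⊗[R] G.A) × (F.B ⊗[R] G.B)
  B := (F.A ⊗[R] G.B) × (F.B ⊗[R] G.A)
  u := (((TensorProduct.map LinearMap.id G.u).comp (LinearMap.fst R _ _)) +
      (TensorProduct.map F.v LinearMap.id).comp (LinearMap.snd R _ _)).prod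
    (((TensorProduct.map F.u LinearMap.id).comp (LinearMap.fst R _ _)) -
      (TensorProduct.map LinearMap.id G.v).comp (LinearMap.snd R _ _))
  v := (((TensorProduct.map LinearMap.id G.v).comp (LinearMap.fst R _ _)) +
      (TensorProduct.map F.v LinearMap.id).comp (LinearMap.snd R _ _)).prod
    (((TensorProduct.map F.u LinearMap.id).comp (LinearMap.fst R _ _)) -
      (TensorProduct.map LinearMap.id G.u).comp (LinearMap.snd R _ _))
  vu := by
    have a1 := LinearMap.congr_fun F.vu
    have a2 := LinearMap.congr_fun F.uv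
    have b1 := LinearMap.congr_fun G.vu
    have b2 := LinearMap.congr_fun G.uv
    simp only [LinearMap.comp_apply, LinearMap.smul_apply, LinearMap.id_apply] at a1 a2 b1 b2
    refine LinearMap.prod_ext (TensorProduct.ext' fun p q => ?_) (TensorProduct.ext' fun p q => ?_)
    all_goals
      refine Prod.ext ?_ ?_
      all_goals
        simp [a1, a2, b1, b2, TensorProduct.tmul_smul, TensorProduct.smul_tmul', add_smul]
        try abel
  uv := by
    have a1 := LinearMap.congr_fun F.vu
    have a2 := LinearMap.congr_fun F.uv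
    have b1 := LinearMap.congr_fun G.vu
    have b2 := LinearMap.congr_fun G.uv
    simp only [LinearMap.comp_apply, LinearMap.smul_apply, LinearMap.id_apply] at a1 a2 b1 b2
    refine LinearMap.prod_ext (TensorProduct.ext' fun p q => ?_) (TensorProduct.ext' fun p q => ?_)
    all_goals
      refine Prod.ext ?_ ?_
      all_goals
        simp [a1, a2, b1, b2, TensorProduct.tmul_smul, TensorProduct.smul_tmul', add_smul]
        try abel
  hx := by
    refine (congrArg₂ (· * ·) F.hx G.hx).trans ?_
    beta_reduce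
    rw [cl_prod, cl_prod, map_add, map_add, cl_tensor, cl_tensor, cl_tensor, cl_tensor,
      map_mul, map_mul, map_mul, map_mul, sub_mul, mul_sub, mul_sub]
    abel

/-- A module that becomes free after inverting `a` gives a factorisation of a power of `a`. -/
theorem exists_mfac {P : Type u} [AddCommGroup P] [Module R P] [Module.Finite R P] [Module.Projective R P]
    {r : ℕ} (hrk : ∀ p : PrimeSpectrum R, Module.rankAtStalk (R := R) P p = r) (a : R)
    [Module.Free (Localization.Away a) (LocalizedModule.Away a P)] :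
    ∃ e : ℕ, Nonempty (MFac (a ^ e) (mu R (cl R P) - mu R (r : Cls R))) := by
  classical
  let S := Submonoid.powers a
  let gP : P →ₗ[R] LocalizedModule.Away a P := LocalizedModule.mkLinearMap S P
  let gF : (Fin r → R) →ₗ[R] LocalizedModule.Away a (Fin r → R) := LocalizedModule.mkLinearMap S (Fin r → R)
  obtain ⟨E⟩ : Nonempty (LocalizedModule.Away a (Fin r → R) ≃ₗ[Localization.Away a] LocalizedModule.Away a P) := by
    rcases subsingleton_or_nontrivial (Localization.Away a) with h | h
    · haveI := Module.subsingleton (Localization.Away a) (LocalizedModule.Away a (Fin r → R))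
      haveI := Module.subsingleton (Localization.Away a) (LocalizedModule.Away a P)
      exact ⟨LinearEquiv.ofSubsingleton _ _⟩
    haveI : Module.Free (Localization.Away a) (LocalizedModule.Away a (Fin r → R)) :=
      Module.free_of_isLocalizedModule S gF
    obtain ⟨q⟩ : Nonempty (PrimeSpectrum (Localization.Away a)) := inferInstance
    haveI : Nontrivial R := (algebraMap R (Localization.Away a)).domain_nontrivial
    refine ⟨LinearEquiv.ofFinrankEq _ _ ?_⟩
    have h1 := Module.rankAtStalk_isBaseChange (LocalizedModule.isBaseChange S P) q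
    have h2 := Module.rankAtStalk_isBaseChange (LocalizedModule.isBaseChange S (Fin r → R)) q
    rw [Module.rankAtStalk_eq_finrank_of_free, hrk] at h1
    rw [Module.rankAtStalk_eq_finrank_of_free, Module.rankAtStalk_eq_finrank_of_free] at h2
    simp only [Pi.natCast_apply, Nat.cast_id, Module.finrank_fin_fun] at h1 h2
    exact h2.trans h1.symm
  haveI : Module.FinitePresentation R P := Module.finitePresentation_of_projective R P
  obtain ⟨φ, s, hφ⟩ := Module.FinitePresentation.exists_lift_of_isLocalizedModule S gP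
    ((E.restrictScalars R).toLinearMap.comp gF)
  obtain ⟨ψ, t, hψ⟩ := Module.FinitePresentation.exists_lift_of_isLocalizedModule S gF
    ((E.symm.restrictScalars R).toLinearMap.comp gP)
  have hφ' : ∀ x, gP (φ x) = (s : R) • E (gF x) := fun x => LinearMap.congr_fun hφ x
  have hψ' : ∀ y, gF (ψ y) = (t : R) • E.symm (gP y) := fun y => LinearMap.congr_fun hψ y
  have k1 : gP.comp (φ.comp ψ) = gP.comp (((s : R) * (t : R)) • LinearMap.id) := by
    ext y
    simp only [LinearMap.comp_apply, LinearMap.smul_apply, LinearMap.id_apply, map_smul]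
    rw [hφ', hψ']
    show (s : R) • (E.restrictScalars R) ((t : R) • (E.restrictScalars R).symm (gP y)) = _
    rw [map_smul, LinearEquiv.apply_symm_apply, smul_smul]
  have k2 : gF.comp (ψ.comp φ) = gF.comp (((s : R) * (t : R)) • LinearMap.id) := by
    ext x
    simp only [LinearMap.comp_apply, LinearMap.smul_apply, LinearMap.id_apply, map_smul]
    rw [hψ', hφ']
    show (t : R) • (E.restrictScalars R).symm ((s : R) • (E.restrictScalars R) _) = _
    rw [map_smul, LinearEquiv.symm_apply_apply, smul_smul, mul_comm]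
  obtain ⟨w₁, hw₁⟩ := Module.Finite.exists_smul_of_comp_eq_of_isLocalizedModule S gP _ _ k1
  obtain ⟨w₂, hw₂⟩ := Module.Finite.exists_smul_of_comp_eq_of_isLocalizedModule S gF _ _ k2
  obtain ⟨e, he⟩ : (w₁ : R) * w₂ * (s * t) ∈ S :=
    mul_mem (mul_mem w₁.2 w₂.2) (mul_mem s.2 t.2)
  have j1 : (w₁ : R) • φ.comp ψ = (w₁ : R) • (((s : R) * (t : R)) • LinearMap.id) := hw₁
  have j2 : (w₂ : R) • ψ.comp φ = (w₂ : R) • (((s : R) * (t : R)) • LinearMap.id) := hw₂
  refine ⟨e, ⟨{ A := P, B := (Fin r → R), u := (w₁ : R) • ψ, v := (w₂ : R) • φ, vu := ?_, uv := ?_, hx := ?_ }⟩⟩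
  · simp only at he
    rw [he, LinearMap.smul_comp, LinearMap.comp_smul, smul_smul, mul_comm, ← smul_smul, smul_comm, j1,
      smul_smul, smul_smul]
    congr 1; ring
  · simp only at he
    rw [he, LinearMap.smul_comp, LinearMap.comp_smul, smul_smul, ← smul_smul, j2, smul_smul, smul_smul]
  · rw [cl_free]

/-- The class of a module of constant rank is its rank up to a nilpotent. -/
theorem exists_pow_eq_zero {P : Type u} [AddCommGroup P] [Module R P] [Module.Finite R P] [Module.Projective R P]
    {r : ℕ} (hrk : ∀ p : PrimeSpectrum R, Module.rankAtStalk (R := R) P p = r) :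
    ∃ m : ℕ, (mu R (cl R P) - mu R (r : Cls R)) ^ m = 0 := by
  classical
  set x := mu R (cl R P) - mu R (r : Cls R)
  let T : Set R := {c | ∃ e : ℕ, Nonempty (MFac (c ^ e) x)}
  have hT : Ideal.span T = ⊤ := by
    by_contra h
    obtain ⟨M, hM, hle⟩ := Ideal.exists_le_maximal _ h
    obtain ⟨a, ha, hfree⟩ := Module.Free.away_of_finite_of_flat_of_rankAtStalk_constant P M
      fun m _ => by rw [hrk, hrk]
    exact ha (hle (Ideal.subset_span (exists_mfac hrk a)))
  obtain ⟨F, hF, hF1⟩ := Submodule.mem_span_finite_of_mem_span (hT ▸ Submodule.mem_top (x := (1 : R)))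
  choose e he using fun i : {i // i ∈ F} => (hF i.2 : i.1 ∈ T)
  have hspan : Ideal.span (Set.range fun i : {i // i ∈ F} => i.1 ^ e i) = ⊤ := by
    by_contra h
    obtain ⟨M, hM, hle⟩ := Ideal.exists_le_maximal _ h
    refine hM.ne_top ((Ideal.eq_top_iff_one M).2 ((Submodule.span_le.2 fun i hi => ?_) hF1))
    exact hM.isPrime.mem_of_pow_mem _ (hle (Ideal.subset_span ⟨⟨i, hi⟩, rfl⟩))
  obtain ⟨b, hb⟩ := (Submodule.mem_span_range_iff_exists_fun R).1 (hspan ▸ Submodule.mem_top (x := (1 : R)))
  have key : ∀ G : Finset {i // i ∈ F}, Nonempty (MFac (∑ i ∈ G, b i * i.1 ^ e i) (x ^ G.card)) := by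
    intro G
    induction G using Finset.induction_on with
    | empty => rw [Finset.sum_empty, Finset.card_empty, pow_zero]; exact ⟨MFac.unit R⟩
    | insert i G hi ih =>
      rw [Finset.sum_insert hi, Finset.card_insert_of_notMem hi, pow_succ']
      exact ⟨((he i).some.scale (b i)).tensor ih.some⟩
  refine ⟨(Finset.univ : Finset {i // i ∈ F}).card, ?_⟩
  have h := key Finset.univ
  rw [show ∑ i, b i * i.1 ^ e i = 1 from hb] at h
  exact h.some.eq_zero

/-- If a power of a class agrees with that of its rank, a positive multiple agrees too. -/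
theorem exists_nsmul_eq {P : Type u} [AddCommGroup P] [Module R P] [Module.Finite R P] [Module.Projective R P]
    {r n : ℕ} (hn : 1 ≤ n) (hr : 1 ≤ r)
    (hrk : ∀ p : PrimeSpectrum R, Module.rankAtStalk (R := R) P p = r)
    (hpow : cl R P ^ n = (r : Cls R) ^ n) :
    ∃ N : ℕ, 1 ≤ N ∧ mu R ((N : Cls R) * cl R P) = mu R ((N * r : ℕ) : Cls R) := by
  obtain ⟨m, hm⟩ := exists_pow_eq_zero hrk
  open Polynomial in
  let x : ℤ[X] := X - C (r : ℤ)
  open Polynomial in
  let f : ℤ[X] := X ^ n - C ((r : ℤ) ^ n)
  let a : ℕ := n * r ^ (n - 1)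
  open Polynomial in
  obtain ⟨U, hU⟩ : ∃ U : ℤ[X], f = x * ((a : ℤ[X]) + x * U) := by
    let Q : ℤ[X] := ∑ i ∈ Finset.range n, X ^ i * C (r : ℤ) ^ (n - 1 - i)
    have hQ : f = x * Q := by
      rw [mul_comm x Q, geom_sum₂_mul, ← C_pow]
    obtain ⟨U, hU⟩ : x ∣ Q - (a : ℤ[X]) := by
      rw [dvd_iff_isRoot, IsRoot.def, eval_sub, eval_natCast, eval_finsetSum]
      simp only [eval_mul, eval_pow, eval_X, eval_C, ← pow_add]
      have hs : ∀ i ∈ Finset.range n, ((r : ℤ) ^ (i + (n - 1 - i))) = (r : ℤ) ^ (n - 1) := fun i hi => by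
        rw [show i + (n - 1 - i) = n - 1 by have := Finset.mem_range.1 hi; omega]
      rw [sub_eq_zero, Finset.sum_congr rfl hs, Finset.sum_const, Finset.card_range, nsmul_eq_mul]
      simp [a]
    exact ⟨U, by rw [hQ, ← hU, add_sub_cancel]⟩
  open Polynomial in
  have key : ∀ k, ∃ W : ℤ[X], (a : ℤ[X]) ^ k * x = x ^ (k + 1) * (-U) ^ k + f * W := by
    intro k
    induction k with
    | zero => exact ⟨0, by ring⟩
    | succ k ih =>
      obtain ⟨W, hW⟩ := ih
      refine ⟨x ^ k * (-U) ^ k + (a : ℤ[X]) * W, ?_⟩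
      have h2 : (a : ℤ[X]) * x = f - x ^ 2 * U := by rw [hU]; ring
      calc (a : ℤ[X]) ^ (k + 1) * x = a * (a ^ k * x) := by ring
        _ = (a * x) * (x ^ k * (-U) ^ k) + a * (f * W) := by rw [hW]; ring
        _ = _ := by rw [h2]; ring
  obtain ⟨W, hW⟩ := key m
  let p : GEnd R := mu R (cl R P)
  have hx : Polynomial.aeval p x = mu R (cl R P) - mu R (r : Cls R) := by
    simp [x, p, map_natCast]
  have hf : Polynomial.aeval p f = 0 := by
    simp [f, p]
    rw [← map_pow, hpow, map_pow, map_natCast, sub_self]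
  have hfin := congrArg (Polynomial.aeval p) hW
  rw [map_mul, map_pow, map_natCast, map_add, map_mul, map_pow, pow_succ', hx, map_mul _ f W, hf, hm,
    zero_mul, add_zero, mul_zero, zero_mul, mul_sub, sub_eq_zero] at hfin
  refine ⟨a ^ m, Nat.one_le_pow _ _ (Nat.mul_pos hn (pow_pos hr _)), ?_⟩
  rw [map_mul, map_natCast, Nat.cast_pow, hfin, map_natCast, map_natCast, ← Nat.cast_pow, ← Nat.cast_mul]

end Groth.Agent.K0Tensor
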