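import Mathlib

/-!
# The semiring of isomorphism classes of finite projective modules
-/

set_option autoImplicit false
set_option linter.unusedSectionVars false

universe u

open scoped TensorProduct

namespace Groth.Agent.K0Tensor

variable (R : Type u) [CommRing R]

/-- Finite projective modules. -/
def Obj : Type (u + 1) := {M : ModuleCat.{u} R // Module.Finite R M ∧ Module.Projective R M}

instance objSetoid : Setoid (Obj R) where
  r X Y := Nonempty (X.1 ≃ₗ[R] Y.1)
  iseqv := ⟨fun _ => ⟨LinearEquiv.refl R _⟩, fun ⟨e⟩ => ⟨e.symm⟩, fun ⟨e⟩ ⟨e'⟩ => ⟨e.trans e'⟩⟩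

/-- Isomorphism classes. -/
def Cls : Type (u + 1) := Quotient (objSetoid R)

variable {R}

/-- The class of a module. -/
def cl (R : Type u) [CommRing R] (M : Type u) [AddCommGroup M] [Module R M] [Module.Finite R M]
    [Module.Projective R M] : Cls R :=
  Quotient.mk _ (⟨ModuleCat.of R M, inferInstanceAs (Module.Finite R M), inferInstanceAs (Module.Projective R M)⟩ : Obj R)

theorem cl_eq_iff {M N : Type u} [AddCommGroup M] [Module R M] [Module.Finite R M] [Module.Projective R M]
    [AddCommGroup N] [Module R N] [Module.Finite R N] [Module.Projective R N] :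
    cl R M = cl R N ↔ Nonempty (M ≃ₗ[R] N) := by
  constructor
  · intro h; exact Quotient.exact h
  · intro h; exact Quotient.sound h

theorem cl_congr {M N : Type u} [AddCommGroup M] [Module R M] [Module.Finite R M] [Module.Projective R M]
    [AddCommGroup N] [Module R N] [Module.Finite R N] [Module.Projective R N] (e : M ≃ₗ[R] N) :
    cl R M = cl R N := cl_eq_iff.2 ⟨e⟩

theorem ind {motive : Cls R → Prop} (h : ∀ (M : Type u) [AddCommGroup M] [Module R M] [Module.Finite R M]
    [Module.Projective R M], motive (cl R M)) (s : Cls R) : motive s :=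
  Quotient.ind (fun X => @h X.1 _ _ X.2.1 X.2.2) s

instance : Add (Cls R) where
  add := Quotient.lift₂
    (fun X Y => haveI := X.2.1; haveI := X.2.2; haveI := Y.2.1; haveI := Y.2.2; cl R (X.1 × Y.1))
    fun X Y X' Y' ⟨e⟩ ⟨e'⟩ => by
      haveI := X.2.1; haveI := X.2.2; haveI := Y.2.1; haveI := Y.2.2
      haveI := X'.2.1; haveI := X'.2.2; haveI := Y'.2.1; haveI := Y'.2.2
      exact cl_congr (e.prodCongr e')

instance : Mul (Cls R) where
  mul := Quotient.lift₂
    (fun X Y => haveI := X.2.1; haveI := X.2.2; haveI := Y.2.1; haveI := Y.2.2; cl R (X.1 ⊗[R] Y.1))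
    fun X Y X' Y' ⟨e⟩ ⟨e'⟩ => by
      haveI := X.2.1; haveI := X.2.2; haveI := Y.2.1; haveI := Y.2.2
      haveI := X'.2.1; haveI := X'.2.2; haveI := Y'.2.1; haveI := Y'.2.2
      exact cl_congr (TensorProduct.congr e e')

instance : Zero (Cls R) := ⟨cl R PUnit.{u+1}⟩
instance : One (Cls R) := ⟨cl R R⟩

theorem cl_prod (M N : Type u) [AddCommGroup M] [Module R M] [Module.Finite R M] [Module.Projective R M]
    [AddCommGroup N] [Module R N] [Module.Finite R N] [Module.Projective R N] :
    cl R (M × N) = cl R M + cl R N := rfl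

theorem cl_tensor (M N : Type u) [AddCommGroup M] [Module R M] [Module.Finite R M] [Module.Projective R M]
    [AddCommGroup N] [Module R N] [Module.Finite R N] [Module.Projective R N] :
    cl R (M ⊗[R] N) = cl R M * cl R N := rfl

theorem cl_punit : cl R PUnit.{u+1} = 0 := rfl
theorem cl_self : cl R R = 1 := rfl

theorem cl_subsingleton (M : Type u) [AddCommGroup M] [Module R M] [Module.Finite R M] [Module.Projective R M]
    [Subsingleton M] : cl R M = 0 := cl_congr (LinearEquiv.ofSubsingleton M PUnit.{u+1})

instance : CommSemiring (Cls R) where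
  add_assoc := ind fun M _ _ _ _ => ind fun N _ _ _ _ => ind fun P _ _ _ _ =>
    cl_congr (LinearEquiv.prodAssoc R M N P)
  zero_add := ind fun M _ _ _ _ => cl_congr (LinearEquiv.uniqueProd (M := M) (M₂ := PUnit.{u+1}))
  add_zero := ind fun M _ _ _ _ => cl_congr (LinearEquiv.prodUnique (M := M) (M₂ := PUnit.{u+1}))
  add_comm := ind fun M _ _ _ _ => ind fun N _ _ _ _ => cl_congr (LinearEquiv.prodComm R M N)
  left_distrib := ind fun M _ _ _ _ => ind fun N _ _ _ _ => ind fun P _ _ _ _ =>
    cl_congr (TensorProduct.prodRight R R M N P)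
  right_distrib := ind fun M _ _ _ _ => ind fun N _ _ _ _ => ind fun P _ _ _ _ =>
    cl_congr (TensorProduct.prodLeft R R M N P)
  zero_mul := ind fun M _ _ _ _ => by
    rw [← cl_punit, ← cl_tensor]; exact cl_subsingleton _
  mul_zero := ind fun M _ _ _ _ => by
    rw [← cl_punit, ← cl_tensor]; exact cl_subsingleton _
  mul_assoc := ind fun M _ _ _ _ => ind fun N _ _ _ _ => ind fun P _ _ _ _ =>
    cl_congr (TensorProduct.assoc R M N P)
  one_mul := ind fun M _ _ _ _ => cl_congr (TensorProduct.lid R M)
  mul_one := ind fun M _ _ _ _ => cl_congr (TensorProduct.rid R M)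
  mul_comm := ind fun M _ _ _ _ => ind fun N _ _ _ _ => cl_congr (TensorProduct.comm R M N)
  nsmul := nsmulRec

theorem cl_fin_fun (M : Type u) [AddCommGroup M] [Module R M] [Module.Finite R M] [Module.Projective R M] :
    ∀ n : ℕ, ∀ [Module.Finite R (Fin n → M)] [Module.Projective R (Fin n → M)],
      cl R (Fin n → M) = (n : Cls R) * cl R M
  | 0, _, _ => by rw [cl_subsingleton, Nat.cast_zero, zero_mul]
  | n + 1, _, _ => by
    haveI : Module.Projective R (Fin n → M) :=
      Module.Projective.of_split
        ((Fin.consLinearEquiv R (fun _ : Fin (n + 1) => M)).toLinearMap.comp (LinearMap.inr R M (Fin n → M)))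
        (LinearMap.funLeft R M Fin.succ) (by ext x i; simp)
    rw [cl_congr (Fin.consLinearEquiv R (fun _ : Fin (n + 1) => M)).symm, cl_prod, cl_fin_fun M n,
      Nat.cast_succ, add_mul, one_mul, add_comm]

theorem cl_free (n : ℕ) : cl R (Fin n → R) = n := by rw [cl_fin_fun R n, cl_self, mul_one]

variable (R) in
/-- Multiplication operators on the Grothendieck group. -/
noncomputable abbrev GEnd : Type (u + 1) := AddMonoid.End (Algebra.GrothendieckAddGroup (Cls R))

/-- The Grothendieck group map. -/
noncomputable abbrev ι : Cls R →+ Algebra.GrothendieckAddGroup (Cls R) := Algebra.GrothendieckAddGroup.of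

theorem hom_ext {f g : GEnd R} (h : ∀ s : Cls R, f (ι s) = g (ι s)) : f = g := by
  apply Algebra.GrothendieckAddGroup.lift.symm.injective
  ext s
  exact h s

/-- Multiplication by a class. -/
noncomputable def mulHom (s : Cls R) : GEnd R :=
  Algebra.GrothendieckAddGroup.lift (ι.comp (AddMonoidHom.mulLeft s))

theorem mulHom_ι (s t : Cls R) : mulHom s (ι t) = ι (s * t) := by
  have h := DFunLike.congr_fun
    (Algebra.GrothendieckAddGroup.lift.symm_apply_apply (ι.comp (AddMonoidHom.mulLeft s))) t
  exact h

variable (R) in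
/-- Classes act on the Grothendieck group. -/
noncomputable def mu : Cls R →+* GEnd R where
  toFun := mulHom
  map_one' := hom_ext fun s => by rw [mulHom_ι, one_mul]; rfl
  map_mul' a b := hom_ext fun s => by
    rw [AddMonoid.End.coe_mul, Function.comp_apply, mulHom_ι, mulHom_ι, mulHom_ι, mul_assoc]
  map_zero' := hom_ext fun s => by rw [mulHom_ι, zero_mul, map_zero]; rfl
  map_add' a b := hom_ext fun s => by
    show _ = (mulHom a) (ι s) + (mulHom b) (ι s)
    rw [mulHom_ι, mulHom_ι, mulHom_ι, add_mul, map_add]

theorem exists_add_eq_of_mu_eq {s t : Cls R} (h : mu R s = mu R t) : ∃ c, c + s = c + t := by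
  have h1 : ι s = ι t := by
    have h2 := DFunLike.congr_fun h (ι 1)
    rwa [show mu R s = mulHom s from rfl, show mu R t = mulHom t from rfl, mulHom_ι, mulHom_ι, mul_one,
      mul_one] at h2
  obtain ⟨c, hc⟩ := ((AddLocalization.addMonoidOf (⊤ : AddSubmonoid (Cls R))).eq_iff_exists).1 h1
  exact ⟨c, hc⟩

theorem mu_eq_of_equiv {M N : Type u} [AddCommGroup M] [Module R M] [Module.Finite R M] [Module.Projective R M]
    [AddCommGroup N] [Module R N] [Module.Finite R N] [Module.Projective R N] (e : M ≃ₗ[R] N) :
    mu R (cl R M) = mu R (cl R N) := by rw [cl_congr e]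

/-- A stable isomorphism with a free module gives one after adding a free module. -/
theorem exists_free_of_add_eq {M N : Type u} [AddCommGroup M] [Module R M] [Module.Finite R M]
    [Module.Projective R M] [AddCommGroup N] [Module R N] [Module.Finite R N] [Module.Projective R N]
    {c : Cls R} (h : c + cl R M = c + cl R N) :
    ∃ k : ℕ, Nonempty ((M × (Fin k → R)) ≃ₗ[R] (N × (Fin k → R))) := by
  revert h
  induction c using ind with
  | h C =>
    intro h
    obtain ⟨k, f, hf⟩ := Module.Finite.exists_fin' R C
    obtain ⟨g, hg⟩ := Module.projective_lifting_property f LinearMap.id hf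
    let q : (Fin k → R) →ₗ[R] LinearMap.ker f := (LinearMap.id - g.comp f).codRestrict _ fun x => by
      rw [LinearMap.mem_ker]
      simpa using congrArg (fun z => f x - z) (LinearMap.congr_fun hg (f x))
    haveI : Module.Finite R (LinearMap.ker f) := Module.Finite.of_surjective q fun z => ⟨z, Subtype.ext (by
      simp [q, LinearMap.mem_ker.1 z.2])⟩
    let e : (Fin k → R) ≃ₗ[R] (C × LinearMap.ker f) :=
      LinearEquiv.ofBijective (f.prod q) ⟨fun x y hxy => by
          have h1 := congrArg Prod.fst hxy
          have h2 := congrArg (fun z : C × LinearMap.ker f => (z.2 : Fin k → R)) hxy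
          simp only [q, LinearMap.prod_apply, Function.prod, LinearMap.codRestrict_apply, LinearMap.sub_apply,
            LinearMap.id_apply, LinearMap.comp_apply] at h1 h2
          rw [h1] at h2
          simpa using h2, fun z => ⟨g z.1 + z.2, by
            have h3 : f (g z.1 + (z.2 : Fin k → R)) = z.1 := by
              rw [map_add, LinearMap.mem_ker.1 z.2.2, add_zero]
              exact LinearMap.congr_fun hg z.1
            refine Prod.ext h3 (Subtype.ext ?_)
            show (g z.1 + (z.2 : Fin k → R)) - g (f (g z.1 + (z.2 : Fin k → R))) = z.2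
            rw [h3, add_sub_cancel_left]⟩⟩
    haveI : Module.Projective R (C × LinearMap.ker f) := Module.Projective.of_equiv e
    haveI : Module.Projective R (LinearMap.ker f) :=
      Module.Projective.of_split ((LinearMap.inr R C (LinearMap.ker f)))
        (LinearMap.snd R C (LinearMap.ker f)) (by ext; simp)
    refine ⟨k, cl_eq_iff.1 ?_⟩
    rw [cl_prod, cl_prod, cl_congr e, cl_prod, add_comm (cl R M), add_comm (cl R N),
      add_comm (cl R C), add_assoc, add_assoc, h]

end Groth.Agent.K0Tensor
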